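import Cfsg.Agent.H20.Fi22C.Line

/-!
The natural module: an elementary abelian group of order eight of linear maps cannot consist of
involutions with one and the same fixed line.
-/

set_option autoImplicit false
set_option maxRecDepth 100000

namespace H81.Fi23C

open H38.U6C H2.U6E H20.Fi22C

/-- No three translations of the base line span seven without further fixed vectors. -/
theorem three_kill : ∀ i j : Fin 16, good i j = true → full (ln i) (ln j) = true →
    ∀ k l : Fin 16, good k l = true → full (ln k) (ln l) = true →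
      full (vadd (ln i) (ln k)) (vadd (ln j) (ln l)) = true →
    ∀ m n : Fin 16, good m n = true → full (ln m) (ln n) = true →
      full (vadd (ln i) (ln m)) (vadd (ln j) (ln n)) = true →
      full (vadd (ln k) (ln m)) (vadd (ln l) (ln n)) = true →
      full (vadd (vadd (ln i) (ln k)) (ln m)) (vadd (vadd (ln j) (ln l)) (ln n)) = false := by
  decide +kernel

theorem ln_vadd : ∀ i k : Fin 16, ∃ m, ln m = vadd (ln i) (ln k) := by decide +kernel

theorem par_add {i j k l r s : Fin 16} (hr : ln r = vadd (ln i) (ln k))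
    (hs : ln s = vadd (ln j) (ln l)) (u : V) : par i j (par k l u) = par r s u := by
  rw [par_mul, ← hr, ← hs]
  rfl

/-- Seven linear involutions forming, with the identity, a group of order eight, each with sixteen
fixed vectors, do not all have the same fixed vectors. -/
theorem eightModel : ∀ E : Subgroup (Equiv.Perm V), Nat.card E = 8 →
    (∀ f ∈ E, IsLin f ∧ f * f = 1) →
    (∀ f ∈ E, f ≠ 1 → (Finset.univ.filter fun v => f v = v).card = 16) →
    ∃ f ∈ E, ∃ g ∈ E, f ≠ 1 ∧ g ≠ 1 ∧ ∃ v, f v = v ∧ g v ≠ v := by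
  classical
  intro E hcard hlin h16
  by_contra hcon
  push Not at hcon
  -- three independent elements
  set S : Finset (Equiv.Perm V) := Finset.univ.filter fun p => p ∈ E with hS
  have hSc : S.card = 8 := by
    rw [← hcard, hS, ← Fintype.card_subtype]
    exact Nat.card_eq_fintype_card.symm
  have pick : ∀ T : Finset (Equiv.Perm V), T.card < 8 → ∃ p ∈ E, p ∉ T := by
    intro T hT
    obtain ⟨p, hp, hpT⟩ := Finset.exists_mem_notMem_of_card_lt_card (hSc.symm ▸ hT : T.card < S.card)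
    exact ⟨p, (Finset.mem_filter.1 hp).2, hpT⟩
  obtain ⟨f, hf, hf'⟩ := pick {1} (by simp)
  obtain ⟨g, hg, hg'⟩ := pick {1, f} (lt_of_le_of_lt Finset.card_le_two (by norm_num))
  obtain ⟨h, hh, hh'⟩ := pick {1, f, g, f * g} (lt_of_le_of_lt Finset.card_le_four (by norm_num))
  simp only [Finset.mem_singleton, Finset.mem_insert, not_or] at hf' hg' hh'
  obtain ⟨hg1, hgf⟩ := hg'
  obtain ⟨hh1, hhf, hhg, hhfg⟩ := hh'
  have ff := (hlin f hf).2
  have gg := (hlin g hg).2
  have hfg : f * g ≠ 1 := fun e => hgf (mul_left_cancel (e.trans ff.symm))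
  have hfh : f * h ≠ 1 := fun e => hhf (mul_left_cancel (e.trans ff.symm))
  have hgh : g * h ≠ 1 := fun e => hhg (mul_left_cancel (e.trans gg.symm))
  have hfgh : f * g * h ≠ 1 := fun e => hhfg
    (mul_left_cancel (e.trans (hlin _ (mul_mem hf hg)).2.symm))
  -- the common fixed line moved to the base line
  obtain ⟨q, hq, hqF⟩ := exists_to_line (hlin f hf).1 ff (h16 f hf hf')
  have hql := isLin_uGroup hq
  have hqi := isLin_uGroup (inv_mem hq)
  have hval : ∀ (p : Equiv.Perm V) u, (q * p * q⁻¹) u = q (p (q⁻¹ u)) := fun _ _ => rfl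
  have hconj : ∀ {p : Equiv.Perm V}, IsLin p → IsLin (q * p * q⁻¹) := fun {p} hp =>
    ⟨fun a b => by rw [hval, hval, hval, hqi.add, hp.add, hql.add],
      fun c a => by rw [hval, hval, hqi.smul, hp.smul, hql.smul],
      fun a b => by rw [hval, hval, hql.herm_eq, hp.herm_eq, hqi.herm_eq]⟩
  have hback : ∀ u, q (q⁻¹ u) = u := fun u => by simp
  have hfix : ∀ p ∈ E, p ≠ 1 → ∀ u, (q * p * q⁻¹) u = u ↔ ∃ l, ln l = u := by
    intro p hp hp1 u
    constructor
    · intro e
      rw [hval] at e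
      have e' : p (q⁻¹ u) = q⁻¹ u := by
        have := congrArg (⇑q⁻¹) e
        simpa using this
      have := (hqF (q⁻¹ u)).1 (hcon p hp f hf hp1 hf' _ e')
      rwa [hback] at this
    · intro e
      have e1 : f (q⁻¹ u) = q⁻¹ u := (hqF _).2 (by rwa [hback])
      rw [hval, hcon f hf p hp hf' hp1 _ e1, hback]
  have hfull : ∀ p ∈ E, p ≠ 1 → ∀ i j, (∀ u, (q * p * q⁻¹) u = par i j u) →
      full (ln i) (ln j) = true := fun p hp hp1 i j e =>
    full_of_fix fun u hu => (hfix p hp hp1 u).1 ((e u).trans hu)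
  have hpar : ∀ p ∈ E, p ≠ 1 → ∃ i j, good i j = true ∧ ∀ u, (q * p * q⁻¹) u = par i j u :=
    fun p hp hp1 => par_of_fix (hconj (hlin p hp).1) fun l => (hfix p hp hp1 _).2 ⟨l, rfl⟩
  have hprod : ∀ (p p' : Equiv.Perm V) (i j k l r s : Fin 16),
      (∀ u, (q * p * q⁻¹) u = par i j u) → (∀ u, (q * p' * q⁻¹) u = par k l u) →
      ln r = vadd (ln i) (ln k) → ln s = vadd (ln j) (ln l) →
      ∀ u, (q * (p * p') * q⁻¹) u = par r s u := by
    intro p p' i j k l r s e e' hr hs u
    rw [show q * (p * p') * q⁻¹ = q * p * q⁻¹ * (q * p' * q⁻¹) by group, Equiv.Perm.mul_apply,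
      e', e, par_add hr hs]
  obtain ⟨i, j, gij, eij⟩ := hpar f hf hf'
  obtain ⟨k, l, gkl, ekl⟩ := hpar g hg hg1
  obtain ⟨m, n, gmn, emn⟩ := hpar h hh hh1
  obtain ⟨a, ha⟩ := ln_vadd i k
  obtain ⟨b, hb⟩ := ln_vadd j l
  obtain ⟨a₁, ha₁⟩ := ln_vadd i m
  obtain ⟨b₁, hb₁⟩ := ln_vadd j n
  obtain ⟨a₂, ha₂⟩ := ln_vadd k m
  obtain ⟨b₂, hb₂⟩ := ln_vadd l n
  obtain ⟨a₃, ha₃⟩ := ln_vadd a m
  obtain ⟨b₃, hb₃⟩ := ln_vadd b n
  have efg := hprod f g i j k l a b eij ekl ha hb
  have t1 := hfull _ (mul_mem hf hg) hfg _ _ efg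
  have t2 := hfull _ (mul_mem hf hh) hfh _ _ (hprod f h i j m n a₁ b₁ eij emn ha₁ hb₁)
  have t3 := hfull _ (mul_mem hg hh) hgh _ _ (hprod g h k l m n a₂ b₂ ekl emn ha₂ hb₂)
  have t4 := hfull _ (mul_mem (mul_mem hf hg) hh) hfgh _ _
    (hprod (f * g) h a b m n a₃ b₃ efg emn ha₃ hb₃)
  rw [ha, hb] at t1
  rw [ha₁, hb₁] at t2
  rw [ha₂, hb₂] at t3
  rw [ha₃, hb₃, ha, hb] at t4
  exact Bool.false_ne_true ((three_kill i j gij (hfull f hf hf' i j eij) k l gkl
    (hfull g hg hg1 k l ekl) t1 m n gmn (hfull h hh hh1 m n emn) t2 t3).symm.trans t4)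

end H81.Fi23C
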